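import Groth.Agent.Fitt.K360.LocFree
import Mathlib.RingTheory.IsTensorProduct

/-!
# Fitting ideals of comodules (S16912, G1: the invariant ideal over which `A_1`, `A_m` are locally free)

`M` is a finite `A`-module. `ideal_isBaseChange` : Fitting ideals commute with every base change; so if `N` is the base
change of `M` along `s` and along `t` (a comodule), `s(Fitt_k M) B = t(Fitt_k M) B`. If `A → B` is injective and
`B ⊗ M` is free of rank `r` then `Fitt_k M = 0` for `k < r`, and `Fitt_r M` kills no element of `A` (nor of a
`B`-module); if moreover `M` has rank `≤ r` at a prime `q` then `Fitt_r M` is not contained in `q`.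
-/

set_option autoImplicit false
universe u v w

namespace Groth.Agent.ResProp.EF.K360

open TensorProduct K360.FittBasic K360.FittFiber K360.FittLocFree

section Inv

variable {A : Type*} [CommRing A] {M : Type*} [AddCommGroup M] [Module A M] [Module.Finite A M]

/-- Fitting ideals and base change, in the language of `IsBaseChange`. -/
theorem ideal_isBaseChange {B : Type*} [CommRing B] [Algebra A B] {N : Type*} [AddCommGroup N]
    [Module A N] [Module B N] [IsScalarTower A B N] {f : M →ₗ[A] N} (h : IsBaseChange B f) (k : ℕ) :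
    Fitt.ideal B N k = (Fitt.ideal A M k).map (algebraMap A B) := by
  rw [← ideal_baseChange B k]
  exact (ideal_congr h.equiv k).symm

/-- **Invariance.** `N` is the base change of `M` along `s` and along `t`. -/
theorem map_ideal_eq {B : Type*} [CommRing B] (s t : A →+* B) {N : Type*} [AddCommGroup N] [Module B N]
    (f g : M →+ N) (hf : ∀ a m, f (a • m) = s a • f m) (hg : ∀ a m, g (a • m) = t a • g m)
    (hfb : letI := s.toAlgebra; letI := Module.compHom N s
      haveI : IsScalarTower A B N := ⟨fun a b n => mul_smul (s a) b n⟩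
      IsBaseChange B ({ f with map_smul' := hf } : M →ₗ[A] N))
    (hgb : letI := t.toAlgebra; letI := Module.compHom N t
      haveI : IsScalarTower A B N := ⟨fun a b n => mul_smul (t a) b n⟩
      IsBaseChange B ({ g with map_smul' := hg } : M →ₗ[A] N)) (k : ℕ) :
    (Fitt.ideal A M k).map s = (Fitt.ideal A M k).map t := by
  have h1 : Fitt.ideal B N k = (Fitt.ideal A M k).map s := by
    let := s.toAlgebra; let := Module.compHom N s
    have : IsScalarTower A B N := ⟨fun a b n => mul_smul (s a) b n⟩
    exact ideal_isBaseChange hfb k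
  have h2 : Fitt.ideal B N k = (Fitt.ideal A M k).map t := by
    let := t.toAlgebra; let := Module.compHom N t
    have : IsScalarTower A B N := ⟨fun a b n => mul_smul (t a) b n⟩
    exact ideal_isBaseChange hgb k
  rw [← h1, ← h2]

section Free

variable {B : Type*} [CommRing B] [Algebra A B] {ι : Type*} [Fintype ι]
  (b : Module.Basis ι B (B ⊗[A] M))

include b

theorem map_ideal_eq_bot {k : ℕ} (hk : k < Fintype.card ι) : (Fitt.ideal A M k).map (algebraMap A B) = ⊥ := by
  rw [← ideal_baseChange B k]
  exact ideal_eq_bot_of_basis b hk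

theorem map_ideal_eq_top {k : ℕ} (hk : Fintype.card ι ≤ k) : (Fitt.ideal A M k).map (algebraMap A B) = ⊤ := by
  rw [← ideal_baseChange B k]
  exact ideal_eq_top_of_basis b hk

/-- if `A → B` is injective and `B ⊗ M` is free of rank `r`, the Fitting ideals below `r` vanish -/
theorem ideal_eq_bot_of_injective (hi : Function.Injective (algebraMap A B)) {k : ℕ} (hk : k < Fintype.card ι) :
    Fitt.ideal A M k = ⊥ := by
  refine (Submodule.eq_bot_iff _).mpr fun x hx => hi ?_
  have h1 : algebraMap A B x ∈ (Fitt.ideal A M k).map (algebraMap A B) := Ideal.mem_map_of_mem _ hx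
  rw [map_ideal_eq_bot b hk] at h1
  rw [map_zero]
  exact h1

/-- and `Fitt_r M` kills no element of a module which embeds in a `B`-module. -/
theorem eq_zero_of_ideal_smul {N L : Type*} [AddCommGroup N] [Module A N] [AddCommGroup L] [Module A L] [Module B L]
    [IsScalarTower A B L] (φ : N →ₗ[A] L) (hφ : Function.Injective φ) {k : ℕ} (hk : Fintype.card ι ≤ k)
    {n : N} (hn : ∀ a ∈ Fitt.ideal A M k, a • n = 0) : n = 0 := by
  apply hφ
  rw [map_zero]
  have h1 : (Fitt.ideal A M k).map (algebraMap A B) ≤ (LinearMap.toSpanSingleton B L (φ n)).ker := by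
    rw [Ideal.map_le_iff_le_comap]
    intro a ha
    rw [Ideal.mem_comap, LinearMap.mem_ker, LinearMap.toSpanSingleton_apply, algebraMap_smul, ← map_smul,
      hn a ha, map_zero]
  rw [map_ideal_eq_top b hk, top_le_iff] at h1
  have h2 : (1 : B) ∈ (LinearMap.toSpanSingleton B L (φ n)).ker := by rw [h1]; trivial
  simpa using h2

end Free

/-- **Local freeness.** If the Fitting ideals below `r` vanish, `M` becomes locally free of rank `r` over every
`A`-algebra in which `Fitt_r M` generates the unit ideal. -/
theorem isLocFree_of_map_eq_top {r : ℕ} (h0 : ∀ k, k < r → Fitt.ideal A M k = ⊥)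
    {C : Type*} [CommRing C] [Algebra A C] (h1 : (Fitt.ideal A M r).map (algebraMap A C) = ⊤) :
    IsLocFree C (C ⊗[A] M) r :=
  isLocFree_of_fitt (fun k hk => by rw [ideal_baseChange C k, h0 k hk, Ideal.map_bot])
    (by rw [ideal_baseChange C r, h1])

/-- If `A → B` is injective, `B ⊗ M` is free of rank `r`, and `a ∈ Fitt_r M`, then `M_a` is locally free of rank `r`. -/
theorem isLocFree_away {B : Type*} [CommRing B] [Algebra A B] {ι : Type*} [Fintype ι]
    (b : Module.Basis ι B (B ⊗[A] M)) (hi : Function.Injective (algebraMap A B))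
    {a : A} (ha : a ∈ Fitt.ideal A M (Fintype.card ι)) (C : Type*) [CommRing C] [Algebra A C]
    (hu : IsUnit (algebraMap A C a)) : IsLocFree C (C ⊗[A] M) (Fintype.card ι) :=
  isLocFree_of_map_eq_top (fun k hk => ideal_eq_bot_of_injective b hi hk)
    (Ideal.eq_top_of_isUnit_mem _ (Ideal.mem_map_of_mem _ ha) hu)

end Inv

end Groth.Agent.ResProp.EF.K360
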